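import Cfsg.Agent.VanishOrder.Step
import Cfsg.Agent.Core.MinimalNormal
import Cfsg.Agent.Chars.Basic
import Mathlib.GroupTheory.SpecificGroups.Cyclic
import Mathlib.GroupTheory.Sylow

/-!
If the zeros of irreducible characters of order divisible by `p` all have the same order, then in a
finite solvable group a Sylow `p`-subgroup has order at most `p` modulo `O_p`.
-/

set_option autoImplicit false

namespace Cfsg.Agent.VanishOrder

variable {K : Type*} [Group K] [Finite K] {p : ℕ} [hp : Fact p.Prime]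

theorem setting_of_pCore_bot [Group.IsSolvable K] (hO : pCore p K = ⊥)
    (hpow : ∀ g : K, Bad p g → ¬ Bad p (g ^ p))
    (hpel : ∀ g h : K, Bad p g → Bad p h → (∃ k, orderOf g = p ^ k) → ∃ k, orderOf h = p ^ k) :
    Setting p (pPrimeCore p K) := by
  have hF : fittingSubgroup K ≤ pPrimeCore p K := by
    rw [Core.fittingSubgroup_eq_iSup]
    exact (Core.iSup_pCore_le_sup p K).trans (by rw [hO]; simp)
  exact ⟨inferInstance, Core.card_pPrimeCore_coprime p K,
    (Subgroup.centralizer_le hF).trans (Core.centralizer_fittingSubgroup_le.trans hF),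
    inferInstance, hpow, hpel⟩

/-- A subgroup of order `p` whose normaliser supplements the normal `p'`-core. -/
theorem exists_prime_subgroup [Group.IsSolvable K] (hdvd : p ∣ Nat.card K)
    (hS : Setting p (pPrimeCore p K)) :
    ∃ A : Subgroup K, Nat.card A = p ∧
      pPrimeCore p K ⊔ Subgroup.normalizer (A : Set K) = ⊤ ∧
      Good p (Subgroup.normalizer (A : Set K)) A := by
  set N := pPrimeCore p K
  haveI : Group.IsSolvable (K ⧸ N) :=
    Group.isSolvable_of_surjective (QuotientGroup.mk'_surjective N)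
  set Q' := pCore p (K ⧸ N) with hQ'
  have hQ'1 : Q' ≠ ⊥ := by
    intro h
    have htop : (⊤ : Subgroup (K ⧸ N)) ≤ ⊥ := fun x _ => by
      have hC := Core.centralizer_pCore_le_of_isSolvable (G := K ⧸ N) (p := p)
        (Core.pPrimeCore_quotient_pPrimeCore p K)
      rw [← hQ', h] at hC
      exact hC (fun y hy => by rw [Subgroup.mem_bot.mp hy, one_mul, mul_one])
    have hN : N = ⊤ := by
      refine eq_top_iff.mpr fun x _ => ?_
      exact (QuotientGroup.eq_one_iff x).mp (Subgroup.mem_bot.mp (htop (Subgroup.mem_top _)))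
    have := Core.not_dvd_card_pPrimeCore p K
    rw [show pPrimeCore p K = ⊤ from hN, Subgroup.card_top] at this
    exact this hdvd
  set M := Q'.comap (QuotientGroup.mk' N) with hM
  haveI : M.Normal := Subgroup.Normal.comap inferInstance _
  obtain ⟨Q⟩ : Nonempty (Sylow p M) := inferInstance
  set Q0 := (Q : Subgroup M).map M.subtype with hQ0
  have hNM : N ≤ M := fun x hx => by
    show QuotientGroup.mk' N x ∈ Q'
    rw [show QuotientGroup.mk' N x = 1 from (QuotientGroup.eq_one_iff x).mpr hx]; exact one_mem _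
  obtain ⟨k, hk⟩ := Core.card_pCore_eq_pow p (K ⧸ N)
  have hcM : Nat.card M = p ^ k * Nat.card N := by rw [hM, Core.card_comap_mk, ← hk]
  have hQ0M : Q0 ≤ M := Subgroup.map_subtype_le _
  have hcQ : Nat.card Q0 = p ^ k := by
    rw [hQ0, Subgroup.card_map_of_injective M.subtype_injective, Sylow.card_eq_multiplicity, hcM,
      Nat.factorization_mul (pow_ne_zero _ hp.out.ne_zero) Nat.card_pos.ne',
      hp.out.factorization_pow, Finsupp.add_apply, Finsupp.single_eq_same,
      Nat.factorization_eq_zero_of_not_dvd (Core.not_dvd_card_pPrimeCore p K), add_zero]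
  have hMsup : M = N ⊔ Q0 := by
    refine (Subgroup.eq_of_le_of_card_ge (sup_le hNM hQ0M) ?_).symm
    rw [hcM]
    refine Nat.le_of_dvd Nat.card_pos (Nat.Coprime.mul_dvd_of_dvd_of_dvd ?_ ?_ ?_)
    · exact ((Core.card_pPrimeCore_coprime p K).pow_right k).symm
    · exact hcQ ▸ Subgroup.card_dvd_of_le le_sup_right
    · exact Subgroup.card_dvd_of_le le_sup_left
  have hK : N ⊔ Subgroup.normalizer (Q0 : Set K) = ⊤ := by
    refine eq_top_iff.mpr ((Sylow.normalizer_sup_eq_top Q).ge.trans (sup_le le_sup_right ?_))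
    rw [hMsup]
    exact sup_le le_sup_left (Subgroup.le_normalizer.trans le_sup_right)
  set A := (Subgroup.center (Q : Subgroup M)).map ((M.subtype).comp (Q : Subgroup M).subtype)
    with hA
  have hmemA : ∀ x, x ∈ A ↔ x ∈ Q0 ∧ ∀ y ∈ Q0, y * x = x * y := by
    intro x
    constructor
    · rintro ⟨a, ha, rfl⟩
      refine ⟨⟨a.1, a.2, rfl⟩, ?_⟩
      rintro _ ⟨b, hb, rfl⟩
      exact congrArg (fun t : (Q : Subgroup M) => ((t : M) : K))
        (Subgroup.mem_center_iff.mp ha ⟨b, hb⟩)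
    · rintro ⟨⟨a, ha, rfl⟩, hc⟩
      exact ⟨⟨a, ha⟩, Subgroup.mem_center_iff.mpr fun b => Subtype.ext (Subtype.ext
        (hc _ ⟨b.1, b.2, rfl⟩)), rfl⟩
  have hAn : ∀ h ∈ Subgroup.normalizer (Q0 : Set K), ∀ a ∈ A, h * a * h⁻¹ ∈ A := by
    intro h hh a ha
    rw [hmemA] at ha ⊢
    refine ⟨(Subgroup.mem_normalizer_iff.mp hh a).mp ha.1, fun y hy => ?_⟩
    have hy' : h⁻¹ * y * h ∈ Q0 := (Subgroup.mem_normalizer_iff.mp hh _).mpr (by simpa [mul_assoc] using hy)
    calc y * (h * a * h⁻¹) = h * ((h⁻¹ * y * h) * a) * h⁻¹ := by group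
      _ = h * (a * (h⁻¹ * y * h)) * h⁻¹ := by rw [ha.2 _ hy']
      _ = h * a * h⁻¹ * y := by group
  have hg : Good p (Subgroup.normalizer (Q0 : Set K)) A :=
    ⟨hAn, fun a ha b hb => ((hmemA b).mp hb).2 a ((hmemA a).mp ha).1,
      (Q.isPGroup'.map M.subtype).to_le fun x hx => ((hmemA x).mp hx).1⟩
  have hA1 : A ≠ ⊥ := by
    have hQne : Nontrivial (Q : Subgroup M) := by
      rw [Subgroup.nontrivial_iff_ne_bot]
      intro h
      have : Nat.card Q0 = 1 := by rw [hQ0, h, Subgroup.map_bot, Subgroup.card_bot]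
      exact hQ'1 (Subgroup.card_eq_one.mp (by rw [hk, ← hcQ, this]))
    haveI := IsPGroup.center_nontrivial Q.isPGroup'
    obtain ⟨z, hz⟩ := exists_ne (1 : Subgroup.center (Q : Subgroup M))
    intro h
    have : ((z.1 : M) : K) = 1 := Subgroup.mem_bot.mp (h ▸ ⟨z.1, z.2, rfl⟩)
    exact hz (Subtype.ext (Subtype.ext (Subtype.ext this)))
  have hle : Subgroup.normalizer (Q0 : Set K) ≤ Subgroup.normalizer (A : Set K) := by
    intro h hh
    rw [Subgroup.mem_normalizer_iff]
    refine fun a => ⟨hAn h hh a, fun ha => ?_⟩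
    have := hAn h⁻¹ (inv_mem hh) _ ha
    simpa [mul_assoc] using this
  exact ⟨A, card_eq_prime hS hK hg hA1, eq_top_iff.mpr (hK.ge.trans (sup_le_sup_left hle N)),
    fun h hh a ha => (Subgroup.mem_normalizer_iff.mp hh a).mp ha, hg.comm, hg.pgroup⟩

theorem sylow_card [Group.IsSolvable K] (hO : pCore p K = ⊥) (hdvd : p ∣ Nat.card K)
    (hpow : ∀ g : K, Bad p g → ¬ Bad p (g ^ p))
    (hpel : ∀ g h : K, Bad p g → Bad p h → (∃ k, orderOf g = p ^ k) → ∃ k, orderOf h = p ^ k)
    (P : Sylow p K) : Nat.card P = p := by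
  set N := pPrimeCore p K with hN
  have hS := setting_of_pCore_bot hO hpow hpel
  obtain ⟨A, hA, hK, hgA⟩ := exists_prime_subgroup hdvd hS
  set H := Subgroup.normalizer (A : Set K) with hH
  set C := Subgroup.centralizer (A : Set K) with hC
  have hAC : A ≤ C := fun a ha b hb => hgA.comm b hb a ha
  have hCH : C ≤ H := Subgroup.centralizer_le_normalizer _
  have hA1 : A ≠ ⊥ := fun h => hp.out.ne_one (by rw [← hA, h, Subgroup.card_bot])
  obtain ⟨⟨a, ha⟩, ha1⟩ := Subgroup.ne_bot_iff_exists_ne_one.mp hA1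
  have hCp : IsPGroup p C := IsPGroup.iff_orderOf.mpr fun c => by
    rw [← Subgroup.orderOf_coe]
    exact orderOf_of_commute hS hK hgA ha (fun e => ha1 (Subtype.ext e))
      (c.2 a ha).symm
  haveI : IsCyclic A := isCyclic_of_prime_card hA
  haveI : NeZero (Nat.card A) := ⟨Nat.card_pos.ne'⟩
  set φ := Subgroup.normalizerMonoidHom A with hφ
  have hker : φ.ker = C.subgroupOf H := Subgroup.normalizerMonoidHom_ker A
  have hcAut : Nat.card (MulAut A) = p - 1 := by
    rw [IsCyclic.card_mulAut, hA, Nat.totient_prime hp.out]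
  have hidx : ¬ p ∣ C.index := by
    rw [← Subgroup.relIndex_mul_index hCH]
    refine hp.out.not_dvd_mul ?_ ?_
    · intro h
      rw [Subgroup.relIndex, ← hker, Subgroup.index_ker] at h
      have h' := (h.trans (Subgroup.card_subgroup_dvd_card φ.range))
      rw [hcAut] at h'
      exact absurd (Nat.le_of_dvd (by have := hp.out.two_le; omega) h')
        (by have := hp.out.two_le; omega)
    · intro h
      have h1 : Nat.card K ∣ Nat.card N * Nat.card H := by
        rw [← Subgroup.card_top (G := K), ← hK]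
        exact Core.card_sup_dvd_mul' N H
      rw [← Subgroup.card_mul_index H, mul_comm (Nat.card H)] at h1
      exact Core.not_dvd_card_pPrimeCore p K
        (h.trans (Nat.dvd_of_mul_dvd_mul_right Nat.card_pos h1))
  let PC : Sylow p K := hCp.toSylow hidx
  rw [Nat.card_congr (P.equiv PC).toEquiv]
  show Nat.card C = p
  by_contra hCne
  -- work in the normaliser modulo `A`
  let ι : H →* K := H.subtype
  set A' := A.subgroupOf H with hA'
  haveI : A'.Normal := Subgroup.normal_in_normalizer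
  set C' := C.subgroupOf H with hC'
  haveI : C'.Normal := hker ▸ MonoidHom.normal_ker _
  let π := QuotientGroup.mk' A'
  set Cb := C'.map π with hCb
  haveI : Cb.Normal := Subgroup.Normal.map inferInstance _ (QuotientGroup.mk'_surjective _)
  have hCbp : IsPGroup p Cb := (hCp.of_equiv (Subgroup.subgroupOfEquivOfLe hCH).symm).map π
  have hCb1 : Nontrivial Cb := by
    rw [Subgroup.nontrivial_iff_ne_bot]
    intro h
    rw [hCb, Subgroup.map_eq_bot_iff, QuotientGroup.ker_mk'] at h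
    refine hCne ?_
    rw [← hA]
    congr 2
    refine le_antisymm (fun c hc => ?_) hAC
    exact h (x := ⟨c, hCH hc⟩) hc
  haveI := IsPGroup.center_nontrivial hCbp
  obtain ⟨z, hz⟩ : ∃ z : Subgroup.center Cb, orderOf z = p :=
    exists_prime_orderOf_dvd_card' p (by
      obtain ⟨k, hk⟩ := IsPGroup.iff_card.mp (hCbp.to_subgroup (Subgroup.center Cb))
      rcases k with _ | k
      · exact absurd hk (by rw [pow_zero]; exact (Finite.one_lt_card).ne')
      · rw [hk]; exact dvd_pow_self p k.succ_ne_zero)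
  -- the elementary abelian group on which `H` acts
  let V : Subgroup (H ⧸ A') :=
    { carrier := {v | v ∈ Cb ∧ (∀ y ∈ Cb, y * v = v * y) ∧ v ^ p = 1}
      one_mem' := ⟨one_mem _, fun y _ => by rw [mul_one, one_mul], one_pow _⟩
      mul_mem' := fun {u v} hu hv => ⟨mul_mem hu.1 hv.1, fun y hy => by
          rw [← mul_assoc, hu.2.1 y hy, mul_assoc, hv.2.1 y hy, mul_assoc], by
          rw [Commute.mul_pow (hv.2.1 u hu.1), hu.2.2, hv.2.2, one_mul]⟩
      inv_mem' := fun {v} hv => ⟨inv_mem hv.1,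
        fun y hy => (Commute.inv_right (hv.2.1 y hy) : Commute y v⁻¹),
        by rw [inv_pow, hv.2.2, inv_one]⟩ }
  have hVcomm : ∀ u v : V, u * v = v * u := fun u v => Subtype.ext (v.2.2.1 u u.2.1)
  letI : CommGroup V := { (inferInstance : Group V) with mul_comm := hVcomm }
  have hVp : ∀ v : V, v ^ p = 1 := fun v => Subtype.ext v.2.2.2
  -- a generator of `H` modulo `C`
  haveI : IsCyclic (MulAut A) := by
    haveI : Fact (Nat.card A).Prime := ⟨hA.symm ▸ hp.out⟩
    exact isCyclic_of_surjective (IsCyclic.mulAutMulEquiv A).symm.toMonoidHom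
      (MulEquiv.surjective _)
  obtain ⟨γ, hγ⟩ := IsCyclic.exists_generator (α := φ.range)
  obtain ⟨e, he⟩ := γ.2
  have hgen : ∀ h : H, ∃ i : ℤ, h * (e ^ i)⁻¹ ∈ C' := by
    intro h
    obtain ⟨i, hi⟩ := hγ ⟨φ h, h, rfl⟩
    refine ⟨i, hker ▸ MonoidHom.mem_ker.mpr ?_⟩
    have hi' : (γ : MulAut A) ^ i = φ h := congrArg Subtype.val hi
    rw [map_mul, map_inv, map_zpow, he, hi', mul_inv_cancel]
  have hconj : ∀ q : H ⧸ A', ∀ v ∈ V, q * v * q⁻¹ ∈ V := by
    intro q v hv
    refine ⟨(inferInstance : Cb.Normal).conj_mem v hv.1 q, fun y hy => ?_, ?_⟩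
    · have hy' := (inferInstance : Cb.Normal).conj_mem' y hy q
      calc y * (q * v * q⁻¹) = q * ((q⁻¹ * y * q) * v) * q⁻¹ := by group
        _ = q * (v * (q⁻¹ * y * q)) * q⁻¹ := by rw [hv.2.1 _ hy']
        _ = q * v * q⁻¹ * y := by group
    · rw [conj_pow, hv.2.2, mul_one, mul_inv_cancel]
  let T : V →* V := MonoidHom.mk' (fun v => ⟨π e * v * (π e)⁻¹, hconj _ _ v.2⟩)
    fun u v => Subtype.ext (by simp [mul_assoc])
  have hTi : ∀ (i : ℕ) (v : V), (((T : V → V)^[i] v : V) : H ⧸ A') = π e ^ i * v * (π e ^ i)⁻¹ := by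
    intro i v
    induction i with
    | zero => simp
    | succ i ih =>
      rw [Function.iterate_succ_apply']
      show π e * _ * (π e)⁻¹ = _
      rw [ih, pow_succ']; group
  have heC : e ^ (p - 1) ∈ C' := by
    rw [← hker, MonoidHom.mem_ker, map_pow, ← hcAut]
    exact pow_card_eq_one'
  let v0 : V := ⟨(z.1 : H ⧸ A'), z.1.2, fun y hy => congrArg Subtype.val
    (Subgroup.mem_center_iff.mp z.2 ⟨y, hy⟩), by
    rw [← hz]; exact congrArg (fun t : Subgroup.center Cb => (t.1 : H ⧸ A')) (pow_orderOf_eq_one z)⟩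
  have hv0 : v0 ≠ 1 := fun h => hp.out.ne_one (by
    rw [← hz, orderOf_eq_one_iff]
    exact Subtype.ext (Subtype.ext (congrArg (fun t : V => (t : H ⧸ A')) h)))
  obtain ⟨w, k, hw, hwk⟩ := exists_eigen_mul hVp T hv0 (Subtype.ext (by
    rw [hTi, ← map_pow, v0.2.2.1 _ (Subgroup.mem_map_of_mem π heC), mul_inv_cancel_right]))
  -- lift the invariant line
  obtain ⟨u, huC, hu⟩ := w.2.1
  set Z := Subgroup.zpowers (w : H ⧸ A') with hZ
  have hnZ : ∀ q : H ⧸ A', q ∈ Subgroup.normalizer (Z : Set (H ⧸ A')) := by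
    have hCn : Cb ≤ Subgroup.normalizer (Z : Set (H ⧸ A')) := fun c hc => by
      refine Subgroup.centralizer_le_normalizer _ ?_
      rintro _ ⟨i, rfl⟩
      exact (Commute.zpow_right (w.2.2.1 c hc) i).symm.eq
    have hen : π e ∈ Subgroup.normalizer (Z : Set (H ⧸ A')) := by
      have h1 : Z.map (MulAut.conj (π e)).toMonoidHom = Z := by
        refine Subgroup.eq_of_le_of_card_ge ?_
          (Subgroup.card_map_of_injective (MulAut.conj (π e)).injective).ge
        rw [hZ, MonoidHom.map_zpowers, Subgroup.zpowers_le]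
        refine ⟨(k : ℤ), ?_⟩
        show (w : H ⧸ A') ^ (k : ℤ) = π e * w * (π e)⁻¹
        rw [zpow_natCast]
        exact (congrArg (fun t : V => (t : H ⧸ A')) hwk).symm
      rw [Subgroup.mem_normalizer_iff]
      intro x
      constructor
      · intro hx
        exact h1 ▸ (⟨x, hx, rfl⟩ : π e * x * (π e)⁻¹ ∈ Z.map (MulAut.conj (π e)).toMonoidHom)
      · intro hx
        rw [← h1] at hx
        obtain ⟨y, hy, hy'⟩ := hx
        have : y = x := (MulAut.conj (π e)).injective hy'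
        exact this ▸ hy
    intro q
    obtain ⟨h, rfl⟩ := QuotientGroup.mk'_surjective A' q
    obtain ⟨i, hi⟩ := hgen h
    have e1 : π h = π (h * (e ^ i)⁻¹) * π e ^ i := by rw [← map_zpow, ← map_mul, inv_mul_cancel_right]
    rw [e1]
    exact mul_mem (hCn (Subgroup.mem_map_of_mem π hi)) (zpow_mem hen i)
  set W := (Z.comap π).map H.subtype with hW
  have hmemW : ∀ h : H, (h : K) ∈ W → ∃ i : ℤ, (u ^ i)⁻¹ * h ∈ A' := by
    intro h hh
    obtain ⟨h', hh', e'⟩ := hh
    obtain rfl : h' = h := Subtype.ext e'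
    obtain ⟨i, hi⟩ := hh'
    refine ⟨i, (QuotientGroup.eq_one_iff _).mp ?_⟩
    show π ((u ^ i)⁻¹ * h') = 1
    have hi' : (π u) ^ i = π h' := by rw [hu]; exact hi
    rw [map_mul, map_inv, map_zpow, hi', inv_mul_cancel]
  have hWC : W ≤ C := by
    rintro _ ⟨h, hh, rfl⟩
    obtain ⟨i, hi⟩ := hmemW h ⟨h, hh, rfl⟩
    have : h = u ^ i * ((u ^ i)⁻¹ * h) := by group
    rw [this]
    exact mul_mem (zpow_mem (show (u : K) ∈ C from huC) i) (hAC hi)
  have hgW : Good p H W := by
    refine ⟨?_, ?_, hCp.to_le hWC⟩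
    · rintro h hh _ ⟨x, hx, rfl⟩
      exact ⟨⟨h, hh⟩ * x * ⟨h, hh⟩⁻¹, show π _ ∈ Z by
        rw [map_mul, map_mul, map_inv]
        exact (Subgroup.mem_normalizer_iff.mp (hnZ _) _).mp hx, rfl⟩
    · rintro _ ⟨x, hx, rfl⟩ _ ⟨y, hy, rfl⟩
      obtain ⟨i, hi⟩ := hmemW x ⟨x, hx, rfl⟩
      obtain ⟨j, hj⟩ := hmemW y ⟨y, hy, rfl⟩
      set a1 := (u ^ i)⁻¹ * x
      set a2 := (u ^ j)⁻¹ * y
      have hxe : x = u ^ i * a1 := by simp [a1]
      have hye : y = u ^ j * a2 := by simp [a2]
      have hcu : ∀ (b : H), b ∈ A' → Commute b u := fun b hb => by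
        have h1 : ((b : K)) * (u : K) = (u : K) * b := (huC : (u : K) ∈ C) b hb
        exact Subtype.ext h1
      have haa : Commute a1 a2 := Subtype.ext (hgA.comm a1 hi a2 hj)
      have hfin : Commute (u ^ i * a1) (u ^ j * a2) := by
        refine Commute.mul_left (Commute.mul_right ?_ ?_) (Commute.mul_right ?_ ?_)
        · exact Commute.zpow_zpow (Commute.refl u) i j
        · exact ((hcu a2 hj).zpow_right i).symm
        · exact (hcu a1 hi).zpow_right j
        · exact haa
      rw [← hxe, ← hye] at hfin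
      exact congrArg (H.subtype) hfin.eq
  have hAW : A ≤ W := fun x hx => ⟨⟨x, hCH (hAC hx)⟩, show π _ ∈ Z by
    rw [show π ⟨x, hCH (hAC hx)⟩ = 1 from (QuotientGroup.eq_one_iff _).mpr hx]; exact one_mem _,
    rfl⟩
  have hW1 : W ≠ ⊥ := fun h => hA1 (le_bot_iff.mp (h ▸ hAW))
  have heq : A = W := Subgroup.eq_of_le_of_card_ge hAW
    (by rw [card_eq_prime hS hK hgW hW1, hA])
  refine hw (Subtype.ext ?_)
  show (w : H ⧸ A') = 1
  rw [← hu]
  refine (QuotientGroup.eq_one_iff _).mpr (heq ▸ ?_ : (u : K) ∈ A)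
  exact ⟨u, show π u ∈ Z by rw [hu]; exact Subgroup.mem_zpowers _, rfl⟩

/-- The theorem. -/
theorem sylow_le_pCore {G : Type*} [Group G] [Finite G] [Group.IsSolvable G]
    (b : ℕ) (hb : ∀ g : G, p ∣ orderOf g → Van g → orderOf g = b) (P : Sylow p G) :
    Nat.card ((P : Subgroup G).map (QuotientGroup.mk' (pCore p G))) ∣ p := by
  set π := QuotientGroup.mk' (pCore p G) with hπdef
  haveI : Group.IsSolvable (G ⧸ pCore p G) :=
    Group.isSolvable_of_surjective (QuotientGroup.mk'_surjective _)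
  obtain ⟨k, hk⟩ := IsPGroup.iff_card.mp (P.isPGroup'.map π)
  rcases k with _ | k
  · rw [hk, pow_zero]; exact one_dvd p
  have hdvd : p ∣ Nat.card (G ⧸ pCore p G) :=
    ((dvd_pow_self p k.succ_ne_zero).trans hk.symm.dvd).trans (Subgroup.card_subgroup_dvd_card _)
  have hlift : ∀ g : G, Bad p (π g) → orderOf g = b := fun g ⟨h1, χ, hχ⟩ =>
    hb g (h1.trans (orderOf_map_dvd π g)) ⟨⟨_, Chars.isIrrCharacter_comp_surjective χ.2 π
      (QuotientGroup.mk'_surjective _)⟩, hχ⟩
  have hopow : ∀ g : G, ∃ i, orderOf g ∣ orderOf (π g) * p ^ i := by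
    intro g
    obtain ⟨i, hi⟩ := (Core.isPGroup_pCore p G) ⟨g ^ orderOf (π g),
      (QuotientGroup.eq_one_iff _).mp (by
        show π (g ^ orderOf (π g)) = 1
        rw [map_pow, pow_orderOf_eq_one])⟩
    refine ⟨i, orderOf_dvd_of_pow_eq_one ?_⟩
    rw [pow_mul]
    exact congrArg Subtype.val hi
  have hpow : ∀ g : G ⧸ pCore p G, Bad p g → ¬ Bad p (g ^ p) := by
    intro g h1 h2
    obtain ⟨g, rfl⟩ := QuotientGroup.mk'_surjective _ g
    have e1 := hlift g h1
    rw [← map_pow] at h2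
    have e2 := hlift (g ^ p) h2
    rw [orderOf_pow_of_dvd hp.out.ne_zero (h1.1.trans (orderOf_map_dvd π g)), e1] at e2
    have hbpos : 0 < b := e1 ▸ orderOf_pos g
    exact absurd e2 (Nat.div_lt_self hbpos hp.out.one_lt).ne
  have hpel : ∀ g h : G ⧸ pCore p G, Bad p g → Bad p h →
      (∃ k, orderOf g = p ^ k) → ∃ k, orderOf h = p ^ k := by
    rintro g h h1 h2 ⟨j, hj⟩
    obtain ⟨g, rfl⟩ := QuotientGroup.mk'_surjective _ g
    obtain ⟨h, rfl⟩ := QuotientGroup.mk'_surjective _ h
    obtain ⟨i, hi⟩ := hopow g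
    rw [hj, ← pow_add, hlift g h1] at hi
    obtain ⟨m, -, hm⟩ := (Nat.dvd_prime_pow hp.out).mp hi
    obtain ⟨l, -, hl⟩ := (Nat.dvd_prime_pow hp.out).mp
      ((hlift h h2).trans hm ▸ orderOf_map_dvd π h)
    exact ⟨l, hl⟩
  have := sylow_card (K := G ⧸ pCore p G) (Core.pCore_quotient_pCore p G) hdvd hpow hpel
    (P.mapSurjective (QuotientGroup.mk'_surjective _))
  rw [Sylow.coe_mapSurjective] at this
  exact this.dvd

end Cfsg.Agent.VanishOrder
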