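import Mathlib.GroupTheory.PGroup
import Mathlib.FieldTheory.Finite.Basic
import Mathlib.Algebra.Module.ZMod
import Mathlib.Data.ZMod.Basic

/-!
Abelian `p`-groups acting on abelian groups of order prime to `p`: regular orbits and fixed-point
free actions; eigenvectors of maps of order dividing `p - 1` over the field with `p` elements.
-/

set_option autoImplicit false

namespace Cfsg.Agent.VanishOrder

open Finset

variable {B X : Type*} [Group B] [CommGroup X] [Finite X] {p : ℕ} [Fact p.Prime]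

theorem eq_one_of_pow_orderOf (hX : (Nat.card X).Coprime p) (hB : IsPGroup p B) (b : B) {x : X}
    (h : x ^ orderOf b = 1) : x = 1 := by
  obtain ⟨k, hk⟩ := IsPGroup.iff_orderOf.mp hB b
  rw [hk] at h
  exact orderOf_eq_one_iff.mp (Nat.eq_one_of_dvd_coprimes (hX.pow_right k)
    (orderOf_dvd_natCard x) (orderOf_dvd_of_pow_eq_one h))

/-- An abelian `p`-group acting coprimely on an abelian group has a point whose stabiliser is the
kernel of the action. -/
theorem exists_regular (f : B →* MulAut X) (hcomm : ∀ a b : B, a * b = b * a) (hB : IsPGroup p B)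
    (hX : (Nat.card X).Coprime p) : ∃ x : X, ∀ b : B, f b x = x → f b = 1 := by
  suffices H : ∀ n, ∀ Y : Subgroup X, Nat.card Y ≤ n → (∀ (b : B), ∀ y ∈ Y, f b y ∈ Y) →
      ∃ y ∈ Y, ∀ b : B, f b y = y → ∀ z ∈ Y, f b z = z by
    obtain ⟨x, -, hx⟩ := H (Nat.card X) ⊤ (by simp) (by simp)
    exact ⟨x, fun b hb => MulEquiv.ext fun z => hx b hb z (Subgroup.mem_top z)⟩
  intro n
  induction n with
  | zero => intro Y hY _; have := Nat.card_pos (α := Y); omega
  | succ n ih =>
    intro Y hY hinv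
    by_cases hA : ∀ c : B, (∀ z ∈ Y, f c z = z) ∨ ∀ y ∈ Y, f c y = y → y = 1
    · by_cases hbot : Y = ⊥
      · subst hbot
        exact ⟨1, one_mem _, fun b _ z hz => by rw [Subgroup.mem_bot.mp hz, map_one]⟩
      · obtain ⟨y, hy, hy1⟩ := (Subgroup.ne_bot_iff_exists_ne_one).mp hbot |> fun ⟨y, hy⟩ =>
          (⟨y.1, y.2, fun e => hy (Subtype.ext e)⟩ : ∃ y, y ∈ Y ∧ y ≠ 1)
        exact ⟨y, hy, fun b hb => (hA b).resolve_right fun h => hy1 (h y hy hb)⟩
    push_neg at hA
    obtain ⟨c, ⟨z, hz, hzc⟩, ⟨u, hu, huc, hu1⟩⟩ := hA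
    let Y0 : Subgroup X := Y ⊓ (f c).toMonoidHom.eqLocus (MonoidHom.id X)
    let d : X →* X := MonoidHom.id X / (f c).toMonoidHom
    let Y1 : Subgroup X := Y.map d
    have hd : ∀ x, d x = x / f c x := fun x => rfl
    have hY0 : ∀ x, x ∈ Y0 ↔ x ∈ Y ∧ f c x = x := fun x => Iff.rfl
    have hY1Y : Y1 ≤ Y := by
      rintro _ ⟨x, hx, rfl⟩
      exact Y.div_mem hx (hinv c x hx)
    have hdis : ∀ x ∈ Y1, f c x = x → x = 1 := by
      rintro _ ⟨x, hx, rfl⟩ hfix
      rw [hd] at hfix ⊢
      refine eq_one_of_pow_orderOf hX hB c ?_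
      set w := x / f c x
      have hk : ∀ k : ℕ, (f c ^ k) x * w ^ k = x := by
        intro k
        induction k with
        | zero => simp
        | succ k ihk =>
          have := congrArg (f c) ihk
          rw [map_mul, map_pow, hfix] at this
          rw [pow_succ', MulAut.mul_apply, pow_succ, ← mul_assoc, this]
          simp [w]
      have h := hk (orderOf c)
      rw [← map_pow, pow_orderOf_eq_one, map_one, MulAut.one_apply] at h
      simpa using h
    have hc : ∀ (b : B) (x : X), f c (f b x) = f b (f c x) := fun b x => by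
      rw [← MulAut.mul_apply, ← MulAut.mul_apply, ← map_mul, ← map_mul, hcomm]
    have hi0 : ∀ (b : B), ∀ y ∈ Y0, f b y ∈ Y0 := fun b y hy =>
      (hY0 _).mpr ⟨hinv b y ((hY0 y).mp hy).1, by rw [hc, ((hY0 y).mp hy).2]⟩
    have hi1 : ∀ (b : B), ∀ y ∈ Y1, f b y ∈ Y1 := by
      rintro b _ ⟨x, hx, rfl⟩
      exact ⟨f b x, hinv b x hx, by rw [hd, hd, map_div, hc]⟩
    have hlt0 : Nat.card Y0 < Nat.card Y :=
      Set.ncard_lt_ncard (s := (Y0 : Set X)) (t := (Y : Set X))
        (Set.ssubset_iff_of_subset inf_le_left |>.mpr ⟨z, hz, fun h => hzc ((hY0 z).mp h).2⟩)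
    have hlt1 : Nat.card Y1 < Nat.card Y :=
      Set.ncard_lt_ncard (s := (Y1 : Set X)) (t := (Y : Set X))
        (Set.ssubset_iff_of_subset hY1Y |>.mpr ⟨u, hu, fun h => hu1 (hdis u h huc)⟩)
    obtain ⟨y0, hy0, hr0⟩ := ih Y0 (by omega) hi0
    obtain ⟨y1, hy1, hr1⟩ := ih Y1 (by omega) hi1
    refine ⟨y0 * y1, mul_mem ((hY0 y0).mp hy0).1 (hY1Y hy1), fun b hb v hv => ?_⟩
    rw [map_mul] at hb
    have he : f b y1 / y1 = y0 / f b y0 := by
      rw [div_eq_div_iff_mul_eq_mul, ← hb, mul_comm]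
    have h1 : f b y1 / y1 = 1 := by
      refine hdis _ (Y1.div_mem (hi1 b _ hy1) hy1) ?_
      rw [he, map_div, hc, ((hY0 y0).mp hy0).2]
    have h0 : f b y0 = y0 := by
      rw [h1] at he
      exact (div_eq_one.mp he.symm).symm
    have e0 := hr0 b h0
    have e1 := hr1 b (div_eq_one.mp h1)
    have hker : (d.comp Y.subtype).ker = Y0.subgroupOf Y := by
      ext x
      simp only [MonoidHom.mem_ker, MonoidHom.comp_apply, Subgroup.mem_subgroupOf, hY0, hd,
        Subgroup.coe_subtype, div_eq_one, x.2, true_and]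
      exact eq_comm
    let m : Y0 × Y1 →* Y := MonoidHom.coprod (Subgroup.inclusion inf_le_left)
      (Subgroup.inclusion hY1Y)
    have hm : Function.Injective m := (injective_iff_map_eq_one m).mpr fun ⟨a, a'⟩ h => by
      have h' : (a : X) * a' = 1 := congrArg Subtype.val h
      have ha' : (a' : X) = 1 := by
        refine hdis _ a'.2 ?_
        rw [eq_inv_of_mul_eq_one_right h', map_inv, ((hY0 _).mp a.2).2]
      exact Prod.ext (Subtype.ext (by rwa [ha', mul_one] at h')) (Subtype.ext ha')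
    have hcard : Nat.card Y ≤ Nat.card (Y0 × Y1) := by
      rw [Nat.card_prod, ← Nat.card_congr (Subgroup.subgroupOfEquivOfLe
        (inf_le_left : Y0 ≤ Y)).toEquiv, ← hker]
      have := Subgroup.card_mul_index (d.comp Y.subtype).ker
      rw [Subgroup.index_ker, MonoidHom.range_comp, Subgroup.range_subtype] at this
      exact this.ge
    obtain ⟨⟨a, a'⟩, ha⟩ :=
      (Function.Injective.bijective_of_nat_card_le hm hcard).2 ⟨v, hv⟩
    have hv' : (a : X) * a' = v := congrArg Subtype.val ha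
    rw [← hv', map_mul, e0 _ a.2, e1 _ a'.2]

theorem prod_pow_eq_one (f : B →* MulAut X) (hfree : ∀ (w : B) (x : X), w ≠ 1 → f w x = x → x = 1)
    {w : B} (hw : w ≠ 1) (hwp : w ^ p = 1) (x : X) :
    ∏ k ∈ range p, f (w ^ k) x = 1 := by
  refine hfree w _ hw ?_
  rw [map_prod]
  have h : ∀ k, f w (f (w ^ k) x) = f (w ^ (k + 1)) x := fun k => by
    rw [← MulAut.mul_apply, ← map_mul, pow_succ']
  simp only [h]
  have e1 := prod_range_succ' (fun k => f (w ^ k) x) p
  have e2 := prod_range_succ (fun k => f (w ^ k) x) p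
  rw [e2, hwp] at e1
  simp only [pow_zero] at e1
  exact (mul_right_cancel e1).symm

/-- Two elements of order `p` of an abelian group acting fixed-point freely on a non-trivial
abelian group of order prime to `p` generate the same subgroup. -/
theorem mem_zpowers_of_free [Nontrivial X] (f : B →* MulAut X) (hcomm : ∀ a b : B, a * b = b * a)
    (hX : (Nat.card X).Coprime p)
    (hfree : ∀ (w : B) (x : X), w ≠ 1 → f w x = x → x = 1) {a b : B} (ha : a ≠ 1)
    (hap : a ^ p = 1) (hbp : b ^ p = 1) : b ∈ Subgroup.zpowers a := by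
  by_contra hb
  obtain ⟨x, hx⟩ := exists_ne (1 : X)
  have hp : p.Prime := Fact.out
  have hb1 : b ≠ 1 := fun h => hb (h ▸ one_mem _)
  have hj : ∀ j : ℕ, a * b ^ j ≠ 1 := by
    intro j hj
    have haz : a ∈ Subgroup.zpowers b := by
      rw [eq_inv_of_mul_eq_one_left hj]
      exact inv_mem (Subgroup.npow_mem_zpowers b j)
    haveI : Finite (Subgroup.zpowers b) := Set.Finite.to_subtype (s := (Subgroup.zpowers b : Set B))
      (isOfFinOrder_iff_pow_eq_one.mpr ⟨p, hp.pos, hbp⟩).finite_zpowers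
    have := Subgroup.eq_of_le_of_card_ge (H := Subgroup.zpowers a) (K := Subgroup.zpowers b)
      (Subgroup.zpowers_le.mpr haz) (by
        rw [Nat.card_zpowers, Nat.card_zpowers, orderOf_eq_prime hap ha, orderOf_eq_prime hbp hb1])
    exact hb (this ▸ Subgroup.mem_zpowers b)
  have key : ∏ j ∈ range p, ∏ i ∈ range p, f ((a * b ^ j) ^ i) x = 1 := by
    refine prod_eq_one fun j _ => prod_pow_eq_one f hfree (hj j) ?_ x
    rw [Commute.mul_pow (hcomm a (b ^ j)), hap, ← pow_mul, mul_comm j p, pow_mul, hbp, one_pow,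
      one_mul]
  rw [prod_comm] at key
  have hterm : ∀ i ∈ range p, i ≠ 0 → ∏ j ∈ range p, f ((a * b ^ j) ^ i) x = 1 := by
    intro i hi h0
    have e : ∀ j, f ((a * b ^ j) ^ i) x = f (a ^ i) (f ((b ^ i) ^ j) x) := fun j => by
      rw [Commute.mul_pow (hcomm a (b ^ j)), map_mul, MulAut.mul_apply, ← pow_mul, mul_comm j i,
        pow_mul]
    simp only [e]
    rw [← map_prod, prod_pow_eq_one f hfree ?_ (by rw [← pow_mul, mul_comm, pow_mul, hbp, one_pow]),
      map_one]
    intro h
    have := orderOf_dvd_of_pow_eq_one h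
    rw [orderOf_eq_prime hbp hb1] at this
    exact absurd (Nat.le_of_dvd (Nat.pos_of_ne_zero h0) this) (by have := mem_range.mp hi; omega)
  rw [prod_eq_single 0 hterm (fun h => absurd (mem_range.mpr hp.pos) h)] at key
  simp only [pow_zero, map_one, MulAut.one_apply, prod_const, card_range] at key
  exact hx (orderOf_eq_one_iff.mp (Nat.eq_one_of_dvd_coprimes hX (orderOf_dvd_natCard x)
    (orderOf_dvd_of_pow_eq_one key)))

section eigen

variable {V : Type*} [AddCommGroup V] [Module (ZMod p) V]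

theorem exists_eigen (T : V →ₗ[ZMod p] V) {v : V} (hv : v ≠ 0) (hT : (T ^ (p - 1)) v = v) :
    ∃ (w : V) (k : ZMod p), w ≠ 0 ∧ T w = k • w := by
  classical
  have hp : p.Prime := Fact.out
  by_contra hcon
  push_neg at hcon
  set W : ZMod p → V := fun k => ∑ i ∈ range (p - 1), k ^ i • (T ^ i) v with hW
  have hstep : ∀ k : ZMod p, k ≠ 0 → W k = 0 := by
    intro k hk
    by_contra hne
    refine hcon (W k) k⁻¹ hne ?_
    have h : k • T (W k) = W k := by
      simp only [hW, map_sum, map_smul, smul_sum, smul_smul, ← Module.End.mul_apply, ← pow_succ']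
      have e1 := sum_range_succ' (fun i => k ^ i • (T ^ i) v) (p - 1)
      have e2 := sum_range_succ (fun i => k ^ i • (T ^ i) v) (p - 1)
      rw [e2, ZMod.pow_card_sub_one_eq_one hk, hT] at e1
      simp only [pow_zero, Module.End.one_apply] at e1
      exact (add_right_cancel e1).symm
    calc T (W k) = k⁻¹ • (k • T (W k)) := by rw [smul_smul, inv_mul_cancel₀ hk, one_smul]
      _ = k⁻¹ • W k := by rw [h]
  have hsum : ∑ k : ZMod p, W k = 0 := by
    simp only [hW]
    rw [sum_comm]
    refine sum_eq_zero fun i hi => ?_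
    rw [← sum_smul, FiniteField.sum_pow_lt_card_sub_one (ZMod p) i (by rw [ZMod.card]; exact mem_range.mp hi),
      zero_smul]
  rw [Fintype.sum_eq_single 0 fun k hk => hstep k hk] at hsum
  simp only [hW] at hsum
  rw [sum_eq_single 0 (fun i _ hi => by rw [zero_pow hi, zero_smul])
    (fun h => absurd (mem_range.mpr (by have := hp.two_le; omega)) h)] at hsum
  simp only [pow_zero, one_smul, Module.End.one_apply] at hsum
  exact hv hsum

end eigen

/-- Multiplicative form of `exists_eigen`. -/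
theorem exists_eigen_mul {V : Type*} [CommGroup V] (hV : ∀ v : V, v ^ p = 1) (T : V →* V) {v : V}
    (hv : v ≠ 1) (hT : (T : V → V)^[p - 1] v = v) : ∃ (w : V) (k : ℕ), w ≠ 1 ∧ T w = w ^ k := by
  letI : Module (ZMod p) (Additive V) := AddCommGroup.zmodModule fun x => hV x.toMul
  let L : Additive V →ₗ[ZMod p] Additive V := (MonoidHom.toAdditive T).toZModLinearMap p
  obtain ⟨w, k, hw, hk⟩ := exists_eigen L (v := Additive.ofMul v) hv (by
    rw [Module.End.pow_apply]
    exact hT)
  refine ⟨w.toMul, k.val, hw, ?_⟩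
  rw [← ZMod.natCast_zmod_val k, Nat.cast_smul_eq_nsmul] at hk
  exact hk

end Cfsg.Agent.VanishOrder
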