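import Cfsg.Agent.Chars2.Correspondence
import Cfsg.Agent.Chars2.Linear
import Cfsg.Agent.Chars.Linear
import Mathlib.Analysis.Complex.Polynomial.Basic
import Mathlib.FieldTheory.IsAlgClosed.AlgebraicClosure
import Mathlib.GroupTheory.Abelianization.Finite
import Mathlib.GroupTheory.FiniteAbelian.Duality
import Mathlib.RingTheory.RootsOfUnity.AlgebraicallyClosed

/-!
Elements moving every conjugate of a linear character of a normal subgroup are zeros of an
irreducible character.
-/

set_option autoImplicit false

namespace Cfsg.Agent.VanishOrder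

universe u

variable {K : Type u} [Group K]

/-- `g` is a zero of some irreducible character. -/
def Van (g : K) : Prop := ∃ χ : IrrCharacter K, (χ : K → ℂ) g = 0

/-- The action of `K` on the linear characters of a normal subgroup. -/
def dual (R : Subgroup K) [R.Normal] : K →* MulAut (R →* ℂˣ) where
  toFun g :=
    { toFun := fun l => l.comp (MulAut.conjNormal g⁻¹).toMonoidHom
      invFun := fun l => l.comp (MulAut.conjNormal g).toMonoidHom
      left_inv := fun l => MonoidHom.ext fun n => congrArg l (by ext; simp [mul_assoc])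
      right_inv := fun l => MonoidHom.ext fun n => congrArg l (by ext; simp [mul_assoc])
      map_mul' := fun _ _ => rfl }
  map_one' := MulEquiv.ext fun l => MonoidHom.ext fun n => congrArg l (by ext; simp)
  map_mul' g h := MulEquiv.ext fun l => MonoidHom.ext fun n => congrArg l (by ext; simp [mul_assoc])

theorem dual_apply (R : Subgroup K) [R.Normal] (g : K) (l : R →* ℂˣ) (n : R) :
    dual R g l n = l (MulAut.conjNormal g⁻¹ n) := rfl

/-- A group acts trivially on the linear characters of its own normal subgroup. -/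
theorem dual_self (R : Subgroup K) [R.Normal] {r : K} (hr : r ∈ R) : dual R r = 1 := by
  refine MulEquiv.ext fun l => MonoidHom.ext fun n => ?_
  rw [dual_apply]
  have e : MulAut.conjNormal r⁻¹ n = ⟨r, hr⟩⁻¹ * n * ⟨r, hr⟩ := by ext; simp
  rw [e, map_mul, map_mul, map_inv, mul_right_comm, inv_mul_cancel, one_mul]
  rfl

theorem exists_vanishing [Finite K] (R : Subgroup K) [R.Normal] (l : R →* ℂˣ) (g : K)
    (h : ∀ x : K, dual R (x⁻¹ * g * x) l ≠ l) : Van g := by
  classical
  haveI : Fintype K := Fintype.ofFinite K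
  haveI : Fintype R := Fintype.ofFinite R
  set θ : R → ℂ := fun n => (l n : ℂ) with hθdef
  have hθ : IsIrrCharacter R θ := Chars.isIrrCharacter_hom l
  set T := Chars2.inertiaSub θ
  haveI : Fintype T := Fintype.ofFinite T
  have hRT : R ≤ T := Chars2.le_inertiaSub
    (Chars.isClassFunction_of_isCharacter (Chars.isCharacter_of_isIrr hθ))
  have hind := Chars.isCharacter_indFun R (Chars.isCharacter_of_isIrr hθ)
  obtain ⟨χ, hχ⟩ : ∃ χ : IrrCharacter K, classInner (indFun R θ) (χ : K → ℂ) ≠ 0 := by
    by_contra hcon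
    push_neg at hcon
    have h1 := Chars2.apply_eq_sum (Chars.isClassFunction_of_isCharacter hind) 1
    simp only [hcon, zero_mul, Finset.sum_const_zero] at h1
    rw [Chars.indFun_apply_one] at h1
    refine mul_ne_zero ?_ (Chars.irr_apply_one_ne_zero hθ) h1
    exact_mod_cast Subgroup.FiniteIndex.index_ne_zero
  have hres : classInner (fun n : R => (χ : K → ℂ) n) θ ≠ 0 := by
    rw [Chars.classInner_indFun R θ
      (Chars.isClassFunction_of_isCharacter (Chars.irr_isCharacter χ))] at hχ
    intro h0
    apply hχ
    rw [← Chars.classInner_conj_symm, h0, map_zero]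
  rw [Chars2.classInner_restrict_expand R T hRT (Chars.irr_isCharacter χ)] at hres
  obtain ⟨ψ, -, hψ⟩ := Finset.exists_ne_zero_of_sum_ne_zero hres
  obtain ⟨hval, -⟩ := Chars2.clifford_correspondence hRT hθ rfl χ.2 ψ.2
    (left_ne_zero_of_mul hψ) (right_ne_zero_of_mul hψ)
  refine ⟨χ, ?_⟩
  rw [← hval, Chars.indFun_apply, Finset.sum_eq_zero, mul_zero]
  intro x _
  refine Chars.extendByZero_of_not_mem T _ fun hx => h x ?_
  refine MonoidHom.ext fun n => Units.ext ?_
  exact congrFun (Chars2.mem_inertiaSub.mp hx) n

/-- Linear characters separate the points modulo the derived subgroup. -/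
theorem mem_commutator_of_dual [Finite K] (R : Subgroup K) [R.Normal] {g : K}
    (hg : dual R g = 1) {n : K} (hn : n ∈ R) : n⁻¹ * (g⁻¹ * n * g) ∈ ⁅R, R⁆ := by
  have hmem : (⟨n, hn⟩⁻¹ : R) * MulAut.conjNormal g⁻¹ ⟨n, hn⟩ ∈ commutator R := by
    rw [← Abelianization.ker_of R, MonoidHom.mem_ker]
    by_contra hne
    obtain ⟨φ, hφ⟩ := CommGroup.exists_apply_ne_one_of_hasEnoughRootsOfUnity
      (Abelianization R) ℂ hne
    apply hφ
    have := congrArg (fun a : MulAut (R →* ℂˣ) => a (φ.comp Abelianization.of) ⟨n, hn⟩) hg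
    simp only [dual_apply, MulAut.one_apply, MonoidHom.comp_apply] at this
    rw [map_mul, map_mul, map_inv, map_inv, this, inv_mul_cancel]
  have := Subgroup.mem_map_of_mem R.subtype hmem
  rw [_root_.commutator_def, Subgroup.map_commutator, ← MonoidHom.range_eq_map,
    Subgroup.range_subtype] at this
  simpa [mul_assoc] using this

theorem card_dual_dvd [Finite K] (R : Subgroup K) : Nat.card (R →* ℂˣ) ∣ Nat.card R := by
  have e : (R →* ℂˣ) ≃ (Abelianization R →* ℂˣ) := Abelianization.lift
  rw [Nat.card_congr e, CommGroup.card_monoidHom_of_hasEnoughRootsOfUnity]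
  exact Subgroup.card_quotient_dvd_card _

instance [Finite K] (R : Subgroup K) : Finite (R →* ℂˣ) := by
  have e : (R →* ℂˣ) ≃ (Abelianization R →* ℂˣ) := Abelianization.lift
  exact Finite.of_equiv _ e.symm

end Cfsg.Agent.VanishOrder
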