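import Cfsg.Agent.VanishOrder.Orbit
import Cfsg.Agent.VanishOrder.Van

/-!
Abelian `p`-subgroups normalised by a supplement of the normal `p'`-subgroup: all their non-trivial
elements are zeros, and the hypothesis on zeros of order divisible by `p` makes them of order `p`.
-/

set_option autoImplicit false

namespace Cfsg.Agent.VanishOrder

variable {K : Type*} [Group K] [Finite K] {p : ℕ} [hp : Fact p.Prime]

/-- A zero of order divisible by `p`. -/
def Bad (p : ℕ) (g : K) : Prop := p ∣ orderOf g ∧ Van g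

/-- The standing hypotheses. -/
structure Setting (p : ℕ) (N : Subgroup K) : Prop where
  normal : N.Normal
  cop : (Nat.card N).Coprime p
  selfCent : Subgroup.centralizer (N : Set K) ≤ N
  solv : Group.IsSolvable N
  pow : ∀ g : K, Bad p g → ¬ Bad p (g ^ p)
  pel : ∀ g h : K, Bad p g → Bad p h → (∃ k, orderOf g = p ^ k) → ∃ k, orderOf h = p ^ k

/-- An abelian `p`-subgroup normalised by `H`. -/
structure Good (p : ℕ) (H W : Subgroup K) : Prop where
  norm : ∀ h ∈ H, ∀ w ∈ W, h * w * h⁻¹ ∈ W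
  comm : ∀ a ∈ W, ∀ b ∈ W, a * b = b * a
  pgroup : IsPGroup p W

theorem Good.orderOf {H W : Subgroup K} (hW : Good p H W) {w : K} (hw : w ∈ W) :
    ∃ k, orderOf w = p ^ k := by
  obtain ⟨k, hk⟩ := IsPGroup.iff_orderOf.mp hW.pgroup ⟨w, hw⟩
  exact ⟨k, by rwa [← Subgroup.orderOf_coe] at hk⟩

theorem dvd_orderOf_of_ne {H W : Subgroup K} (hW : Good p H W) {w : K} (hw : w ∈ W) (h1 : w ≠ 1) :
    p ∣ orderOf w := by
  obtain ⟨k, hk⟩ := hW.orderOf hw
  rcases k with _ | k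
  · exact absurd (orderOf_eq_one_iff.mp (by simpa using hk)) h1
  · rw [hk]; exact dvd_pow_self p k.succ_ne_zero

/-- The derived series of a subgroup inside the group. -/
def dser (N : Subgroup K) : ℕ → Subgroup K
  | 0 => N
  | j + 1 => ⁅dser N j, dser N j⁆

theorem dser_eq (N : Subgroup K) : ∀ j, dser N j = (derivedSeries N j).map N.subtype
  | 0 => by
    show N = (⊤ : Subgroup N).map N.subtype
    rw [← MonoidHom.range_eq_map, Subgroup.range_subtype]
  | j + 1 => by rw [dser, dser_eq N j, derivedSeries_succ, Subgroup.map_commutator]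

theorem dser_normal (N : Subgroup K) [N.Normal] : ∀ j, (dser N j).Normal
  | 0 => inferInstanceAs N.Normal
  | j + 1 => by
    haveI := dser_normal N j
    exact Subgroup.commutator_normal _ _

theorem dser_le (N : Subgroup K) [N.Normal] : ∀ j, dser N j ≤ N
  | 0 => le_rfl
  | j + 1 => by
    haveI := dser_normal N j
    exact (Subgroup.commutator_le_left _ _).trans (dser_le N j)

theorem exists_dser_eq_bot (N : Subgroup K) (h : Group.IsSolvable N) : ∃ j, dser N j = ⊥ := by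
  obtain ⟨j, hj⟩ := (Group.isSolvable_def N).mp h
  exact ⟨j, by rw [dser_eq, hj, Subgroup.map_bot]⟩

variable {N H : Subgroup K} (hS : Setting p N) (hNH : N ⊔ H = ⊤)
include hS

/-- A `p`-element moving `N` only inside `R` and centralising `R` modulo `D` moves `N` only
inside `D`. -/
theorem comm_mem_of_trivial {R D : Subgroup K} [hD : D.Normal] {w n : K}
    (hwp : ∃ k, orderOf w = p ^ k) (hn : n ∈ N) (hc : n⁻¹ * (w * n * w⁻¹) ∈ R)
    (hR : ∀ r ∈ R, r⁻¹ * (w * r * w⁻¹) ∈ D) : n⁻¹ * (w * n * w⁻¹) ∈ D := by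
  haveI := hS.normal
  set c := n⁻¹ * (w * n * w⁻¹) with hcdef
  have hcN : c ∈ N := mul_mem (inv_mem hn) (hS.normal.conj_mem n hn w)
  let π := QuotientGroup.mk' D
  have hcw : π w * π c * (π w)⁻¹ = π c := by
    have : π (c⁻¹ * (w * c * w⁻¹)) = 1 := (QuotientGroup.eq_one_iff _).mpr (hR c hc)
    rw [map_mul, map_inv, map_mul, map_mul, map_inv] at this
    exact (inv_mul_eq_one.mp this).symm
  have hwn : π w * π n * (π w)⁻¹ = π n * π c := by
    rw [← map_inv, ← map_mul, ← map_mul, ← map_mul, hcdef, mul_inv_cancel_left]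
  have hk : ∀ k : ℕ, π w ^ k * π n * (π w ^ k)⁻¹ = π n * π c ^ k := by
    intro k
    induction k with
    | zero => simp
    | succ k ih =>
      calc π w ^ (k + 1) * π n * (π w ^ (k + 1))⁻¹
          = π w * (π w ^ k * π n * (π w ^ k)⁻¹) * (π w)⁻¹ := by rw [pow_succ']; group
        _ = (π w * π n * (π w)⁻¹) * (π w * π c * (π w)⁻¹) ^ k := by rw [ih, conj_pow]; group
        _ = π n * π c ^ (k + 1) := by rw [hwn, hcw, pow_succ', mul_assoc]
  have hone := hk (orderOf w)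
  rw [← map_pow, pow_orderOf_eq_one, map_one, one_mul, inv_one, mul_one, ← map_pow] at hone
  have hπ : π c ^ orderOf w = 1 := by
    rw [← map_pow]; exact mul_eq_left.mp hone.symm
  obtain ⟨k, hk'⟩ := hwp
  rw [hk'] at hπ
  have h2 : orderOf (π c) ∣ Nat.card N := (orderOf_map_dvd π c).trans
    ((Subgroup.orderOf_coe (⟨c, hcN⟩ : N)).symm ▸ orderOf_dvd_natCard _)
  exact (QuotientGroup.eq_one_iff c).mp (orderOf_eq_one_iff.mp
    (Nat.eq_one_of_dvd_coprimes (hS.cop.pow_right k) h2 (orderOf_dvd_of_pow_eq_one hπ)))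

include hNH

theorem bad_of_move {R W : Subgroup K} [R.Normal] (hW : Good p H W) (hR : R ≤ N)
    (hNW : ∀ w ∈ W, ∀ n ∈ N, n⁻¹ * (w * n * w⁻¹) ∈ R) {w g : K} (hw : w ∈ W)
    (hmove : dual R w ≠ 1) {m : ℕ} (hgw : g ^ m = w) : Bad p g := by
  refine ⟨(dvd_orderOf_of_ne hW hw fun h => hmove (by rw [h, map_one])).trans
    (hgw ▸ orderOf_pow_dvd m), ?_⟩
  haveI := hS.normal
  obtain ⟨l, hl⟩ := exists_regular ((dual R).comp W.subtype)
    (fun a b => Subtype.ext (hW.comm a a.2 b b.2)) hW.pgroup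
    ((hS.cop.coprime_dvd_left (Subgroup.card_dvd_of_le hR)).coprime_dvd_left (card_dual_dvd R))
  refine exists_vanishing R l g fun x hfix => hmove ?_
  have hpow : ∀ k : ℕ, dual R ((x⁻¹ * g * x) ^ k) l = l := by
    intro k
    induction k with
    | zero => rw [pow_zero, map_one, MulAut.one_apply]
    | succ k ih => rw [pow_succ, map_mul, MulAut.mul_apply, hfix, ih]
  have hw' := hpow m
  have e : (x⁻¹ * g * x) ^ m = x⁻¹ * g ^ m * x := by
    have := conj_pow (a := x⁻¹) (b := g) (i := m)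
    rwa [inv_inv] at this
  rw [e, hgw] at hw'
  obtain ⟨n, hn, h, hh, rfl⟩ := Subgroup.mem_sup_of_normal_left.mp (hNH ▸ Subgroup.mem_top x)
  have hW' : h⁻¹ * w * h ∈ W := by
    simpa using hW.norm h⁻¹ (inv_mem hh) w hw
  have hr : h⁻¹ * (n⁻¹ * (w * n * w⁻¹)) * h ∈ R :=
    (inferInstance : R.Normal).conj_mem' _ (hNW w hw n hn) h
  have e2 : (n * h)⁻¹ * w * (n * h) = h⁻¹ * (n⁻¹ * (w * n * w⁻¹)) * h * (h⁻¹ * w * h) := by group
  rw [e2, map_mul, dual_self R hr, one_mul] at hw'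
  have h1 := hl ⟨_, hW'⟩ hw'
  have e3 : w = h * (h⁻¹ * w * h) * h⁻¹ := by group
  rw [e3, map_mul, map_mul, show dual R (h⁻¹ * w * h) = 1 from h1, mul_one, ← map_mul,
    mul_inv_cancel, map_one]

theorem exists_free {W : Subgroup K} (hW : Good p H W) (hW1 : W ≠ ⊥) :
    ∃ w ∈ W, w ≠ 1 ∧ ∀ n ∈ N, Commute n w → n = 1 := by
  haveI := hS.normal
  classical
  let P : ℕ → Prop := fun j => ∀ w ∈ W, ∀ n ∈ N, n⁻¹ * (w * n * w⁻¹) ∈ dser N j
  have hex : ∃ j, ¬ P j := by
    obtain ⟨j, hj⟩ := exists_dser_eq_bot N hS.solv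
    refine ⟨j, fun hP => hW1 ((Subgroup.eq_bot_iff_forall _).mpr fun w hw => ?_)⟩
    have hwN : w ∈ N := hS.selfCent fun n hn => by
      have := hP w hw n hn
      rw [hj, Subgroup.mem_bot] at this
      calc n * w = (w * n * w⁻¹) * w := by rw [← inv_mul_eq_one.mp this]
        _ = w * n := by group
    obtain ⟨k, hk⟩ := hW.orderOf hw
    exact orderOf_eq_one_iff.mp (Nat.eq_one_of_dvd_coprimes (hS.cop.pow_right k)
      ((Subgroup.orderOf_coe (⟨w, hwN⟩ : N)).symm ▸ orderOf_dvd_natCard _) hk.dvd)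
  have h0 : P 0 := fun w _ n hn => mul_mem (inv_mem hn) (hS.normal.conj_mem n hn w)
  obtain ⟨j, hj⟩ : ∃ j, Nat.find hex = j + 1 := Nat.exists_eq_succ_of_ne_zero
    fun h => Nat.find_spec hex (h ▸ h0)
  have hPj : P j := not_not.mp (Nat.find_min hex (by omega))
  haveI := dser_normal N j
  haveI := dser_normal N (j + 1)
  obtain ⟨w, hw, hmove⟩ : ∃ w ∈ W, dual (dser N j) w ≠ 1 := by
    by_contra hcon
    push_neg at hcon
    refine Nat.find_spec hex (hj ▸ fun w hw n hn => comm_mem_of_trivial hS (hW.orderOf hw) hn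
      (hPj w hw n hn) fun r hr => ?_)
    have := mem_commutator_of_dual (dser N j) (hcon w⁻¹ (inv_mem hw)) hr
    rwa [inv_inv] at this
  refine ⟨w, hw, fun h => hmove (by rw [h, map_one]), fun n hn hnw => ?_⟩
  have hcop : (orderOf n).Coprime (orderOf w) := by
    obtain ⟨k, hk⟩ := hW.orderOf hw
    rw [hk]
    exact (hS.cop.pow_right k).coprime_dvd_left
      ((Subgroup.orderOf_coe (⟨n, hn⟩ : N)).symm ▸ orderOf_dvd_natCard _)
  have hgw : (n * w) ^ orderOf n = w ^ orderOf n := by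
    rw [hnw.mul_pow, pow_orderOf_eq_one, one_mul]
  have hmove' : dual (dser N j) (w ^ orderOf n) ≠ 1 := by
    intro h
    obtain ⟨s, hs⟩ := exists_pow_eq_self_of_coprime hcop
    exact hmove (by rw [← hs, map_pow, h, one_pow])
  have hb : Bad p (n * w) :=
    bad_of_move hS hNH hW (dser_le N j) hPj (pow_mem hw _) hmove' hgw
  have hb' : Bad p w := bad_of_move hS hNH hW (dser_le N j) hPj hw hmove (pow_one w)
  obtain ⟨k, hk⟩ := hS.pel w (n * w) hb' hb (hW.orderOf hw)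
  rw [hnw.orderOf_mul_eq_mul_orderOf_of_coprime hcop] at hk
  exact orderOf_eq_one_iff.mp (Nat.eq_one_of_dvd_coprimes (hS.cop.pow_right k)
    ((Subgroup.orderOf_coe (⟨n, hn⟩ : N)).symm ▸ orderOf_dvd_natCard _) (hk ▸ dvd_mul_right _ _))

omit hNH in
theorem exists_commutator_eq {w : K} (hw : ∀ n ∈ N, Commute n w → n = 1) {m : K} (hm : m ∈ N) :
    ∃ n ∈ N, n⁻¹ * (w * n * w⁻¹) = m := by
  haveI := hS.normal
  let φ : N → N := fun n =>
    ⟨(n : K)⁻¹ * (w * n * w⁻¹), mul_mem (inv_mem n.2) (hS.normal.conj_mem _ n.2 w)⟩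
  have hinj : Function.Injective φ := fun a b hab => by
    have h : (a : K)⁻¹ * (w * a * w⁻¹) = (b : K)⁻¹ * (w * b * w⁻¹) := congrArg Subtype.val hab
    have hc : Commute ((b : K) * (a : K)⁻¹) w := by
      show (b : K) * (a : K)⁻¹ * w = w * ((b : K) * (a : K)⁻¹)
      calc (b : K) * (a : K)⁻¹ * w
          = b * ((a : K)⁻¹ * (w * a * w⁻¹)) * (w * (a : K)⁻¹) := by group
        _ = b * ((b : K)⁻¹ * (w * b * w⁻¹)) * (w * (a : K)⁻¹) := by rw [h]
        _ = w * ((b : K) * (a : K)⁻¹) := by group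
    exact Subtype.ext (mul_inv_eq_one.mp (hw _ (mul_mem b.2 (inv_mem a.2)) hc)).symm
  obtain ⟨n, hn⟩ := Finite.injective_iff_surjective.mp hinj ⟨m, hm⟩
  exact ⟨n, n.2, congrArg Subtype.val hn⟩

omit hNH in
theorem eq_bot_of_le_commutator (h : N ≤ ⁅N, N⁆) : N = ⊥ := by
  haveI := hS.normal
  obtain ⟨j, hj⟩ := exists_dser_eq_bot N hS.solv
  have : ∀ i, N ≤ dser N i := by
    intro i
    induction i with
    | zero => exact le_rfl
    | succ i ih => exact h.trans (Subgroup.commutator_mono ih ih)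
  exact le_bot_iff.mp (hj ▸ this j)

theorem dual_ne_one {W : Subgroup K} (hW : Good p H W) {w : K} (hw : w ∈ W) (hw1 : w ≠ 1) :
    haveI := hS.normal; dual N w ≠ 1 := by
  haveI := hS.normal
  intro h
  let W0 : Subgroup K := W ⊓ (dual N).ker
  have hW0 : Good p H W0 :=
    ⟨fun x hx y hy => ⟨hW.norm x hx y hy.1, (MonoidHom.normal_ker _).conj_mem y hy.2 x⟩,
      fun a ha b hb => hW.comm a ha.1 b hb.1, hW.pgroup.to_le inf_le_left⟩
  obtain ⟨u, hu, hu1, hufree⟩ := exists_free hS hNH hW0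
    fun hb => hw1 (Subgroup.mem_bot.mp (hb ▸ (⟨hw, h⟩ : w ∈ W0)))
  have hN : N = ⊥ := eq_bot_of_le_commutator hS fun m hm => by
    obtain ⟨n, hn, rfl⟩ := exists_commutator_eq hS hufree hm
    have := mem_commutator_of_dual N (g := u⁻¹) ((MonoidHom.ker _).inv_mem hu.2) hn
    rwa [inv_inv] at this
  exact hu1 (Subgroup.mem_bot.mp (hN ▸ hS.selfCent (fun n hn => by
    rw [Subgroup.mem_bot.mp (hN ▸ hn : n ∈ (⊥ : Subgroup K)), one_mul, mul_one])))

theorem bad_of_pow_mem {W : Subgroup K} (hW : Good p H W) {w g : K} (hw : w ∈ W) (hw1 : w ≠ 1)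
    {m : ℕ} (hgw : g ^ m = w) : Bad p g :=
  haveI := hS.normal
  bad_of_move hS hNH hW le_rfl (fun v _ n hn => mul_mem (inv_mem hn) (hS.normal.conj_mem n hn v))
    hw (dual_ne_one hS hNH hW hw hw1) hgw

theorem pow_p_eq_one {W : Subgroup K} (hW : Good p H W) {w : K} (hw : w ∈ W) : w ^ p = 1 := by
  by_contra h
  have hw1 : w ≠ 1 := fun e => h (by rw [e, one_pow])
  exact hS.pow w (bad_of_pow_mem hS hNH hW hw hw1 (pow_one w))
    (bad_of_pow_mem hS hNH hW (pow_mem hw p) h (pow_one _))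

theorem orderOf_of_commute {W : Subgroup K} (hW : Good p H W) {w y : K} (hw : w ∈ W) (hw1 : w ≠ 1)
    (hy : Commute y w) : ∃ k, orderOf y = p ^ k := by
  obtain ⟨k, m, hm, he⟩ := Nat.exists_eq_pow_mul_and_not_dvd (orderOf_pos y).ne' p hp.out.ne_one
  have hz : orderOf (y ^ p ^ k) = m := by
    rw [orderOf_pow_of_dvd (pow_ne_zero _ hp.out.ne_zero) (he ▸ dvd_mul_right _ _), he,
      Nat.mul_div_cancel_left _ (pow_pos hp.out.pos _)]
  have hwo : orderOf w = p := orderOf_eq_prime (pow_p_eq_one hS hNH hW hw) hw1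
  have hcop : (orderOf (y ^ p ^ k)).Coprime (orderOf w) := by
    rw [hz, hwo]
    exact Nat.coprime_comm.mp (hp.out.coprime_iff_not_dvd.mpr hm)
  have hc : Commute (y ^ p ^ k) w := hy.pow_left _
  have hgw : (y ^ p ^ k * w) ^ m = w ^ m := by
    rw [hc.mul_pow, ← hz, pow_orderOf_eq_one, one_mul]
  have hwm : w ^ m ≠ 1 := fun h => hm (hwo ▸ orderOf_dvd_of_pow_eq_one h)
  obtain ⟨i, hi⟩ := hS.pel w _ (bad_of_pow_mem hS hNH hW hw hw1 (pow_one w))
    (bad_of_pow_mem hS hNH hW (pow_mem hw m) hwm hgw) (hW.orderOf hw)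
  rw [hc.orderOf_mul_eq_mul_orderOf_of_coprime hcop, hz, hwo] at hi
  have hm1 : m = 1 := Nat.eq_one_of_dvd_coprimes
    ((hp.out.coprime_iff_not_dvd.mpr hm).pow_left i) (hi ▸ dvd_mul_right m p) dvd_rfl
  exact ⟨k, by rw [he, hm1, mul_one]⟩

theorem card_eq_prime {W : Subgroup K} (hW : Good p H W) (hW1 : W ≠ ⊥) : Nat.card W = p := by
  haveI := hS.normal
  obtain ⟨⟨a, ha⟩, ha1⟩ := Subgroup.ne_bot_iff_exists_ne_one.mp hW1
  haveI : Nontrivial (N →* ℂˣ) := by
    by_contra hsub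
    haveI := not_nontrivial_iff_subsingleton.mp hsub
    exact dual_ne_one hS hNH hW ha (fun e => ha1 (Subtype.ext e))
      (MulEquiv.ext fun l => Subsingleton.elim _ _)
  have hfree : ∀ (w : W) (l : N →* ℂˣ), w ≠ 1 → (dual N).comp W.subtype w l = l → l = 1 := by
    intro w l hw hl
    refine MonoidHom.ext fun n => ?_
    have hw1 : (w : K)⁻¹ ≠ 1 := fun e => hw (Subtype.ext (inv_eq_one.mp e))
    have hf : ∀ m ∈ N, Commute m (w : K)⁻¹ → m = 1 := fun m hm hc => by
      obtain ⟨k, hk⟩ := orderOf_of_commute hS hNH hW (inv_mem w.2) hw1 hc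
      exact orderOf_eq_one_iff.mp (Nat.eq_one_of_dvd_coprimes (hS.cop.pow_right k)
        ((Subgroup.orderOf_coe (⟨m, hm⟩ : N)).symm ▸ orderOf_dvd_natCard _) hk.dvd)
    obtain ⟨m, hm, e⟩ := exists_commutator_eq hS hf n.2
    have hn : n = (⟨m, hm⟩ : N)⁻¹ * MulAut.conjNormal (w : K)⁻¹ ⟨m, hm⟩ :=
      Subtype.ext (by simpa [mul_assoc] using e.symm)
    have := congrArg (fun q : N →* ℂˣ => q ⟨m, hm⟩) hl
    simp only [MonoidHom.comp_apply, Subgroup.coe_subtype, dual_apply] at this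
    rw [hn, map_mul, map_inv, this, inv_mul_cancel]
    rfl
  have hgen : W = Subgroup.zpowers a := le_antisymm (fun b hb => by
    have := mem_zpowers_of_free (p := p) ((dual N).comp W.subtype)
      (fun x y => Subtype.ext (hW.comm x x.2 y y.2))
      (hS.cop.coprime_dvd_left (card_dual_dvd N)) hfree (a := ⟨a, ha⟩) (b := ⟨b, hb⟩) ha1
      (Subtype.ext (pow_p_eq_one hS hNH hW ha)) (Subtype.ext (pow_p_eq_one hS hNH hW hb))
    obtain ⟨i, hi⟩ := this
    exact ⟨i, congrArg Subtype.val hi⟩) (Subgroup.zpowers_le.mpr ha)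
  rw [hgen, Nat.card_zpowers]
  exact orderOf_eq_prime (pow_p_eq_one hS hNH hW ha) fun e => ha1 (Subtype.ext e)

end Cfsg.Agent.VanishOrder
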